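import Cfsg.Agent.Coset.G24.Simple
import Cfsg.Agent.J2.Perm.Simple
import Cfsg.Agent.G24J2.Data

/-! The point stabiliser of `G₂(4)` on 416 points is `J₂`, and the two-point stabilisers are
maximal in it. -/

set_option autoImplicit false
set_option maxRecDepth 100000
set_option Elab.async false

namespace CfsgLib.G24J2

open CfsgLib.Coset

/-- Flatten a word in the reflections. -/
def flat (w : List Nat) : List Nat := w.flatMap fun x => imgs.getD x []

/-- The images of the reflections. -/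
noncomputable def Li : List G24.P := imgs.map (ev G24.Lp)

theorem len_Li : Li.length = 5 := by simp [Li, imgs]

theorem ev_Li (w : List Nat) : ev Li w = ev G24.Lp (flat w) := by
  induction w with
  | nil => simp [flat]
  | cons x w ih =>
    rw [ev_cons, ih, flat, flat, List.flatMap_cons, ev_append]
    congr 1
    rw [fl, Li]
    rcases lt_or_ge x imgs.length with hx | hx
    · simp [List.getD_eq_getElem?_getD, List.getElem?_eq_getElem hx]
    · rw [List.getD_eq_default _ _ hx, List.getD_eq_default _ _ (by simpa using hx), ev_nil]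

theorem rels_check : (J2.Perm.rels.all fun w => checkLetters 6 [flat w] &&
    allList (fun b => Nat.beq (follow (tget G24.Top.Tb) b (flat w))
      (follow (tget G24.Top.Tb) b [])) [0, 1, 10, 39]) = true := by decide +kernel

theorem img_rels : ∀ w ∈ J2.Perm.rels, ev Li w = 1 := by
  intro w hw
  have h := List.all_eq_true.mp rels_check w hw
  rw [Bool.and_eq_true] at h
  rw [ev_Li, ← ev_nil (L := G24.Lp)]
  exact G24.matches_ρ.ev_eq_of_base G24.base_bot (by rw [G24.len_Lp]; exact h.1)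
    (by rw [G24.len_Lp]; decide +kernel) h.2

/-- The map from the group on the 315 lines. -/
noncomputable def ψ : J2.Perm.P →* G24.P := numHom len_Li img_rels

theorem imgs_low : ∀ w ∈ imgs, ∀ l ∈ w, l ∈ [0, 1, 2, 3, 4] := by decide +kernel

theorem H_eq : G24.H = genBy G24.Lp [0, 1, 2, 3, 4] := genW_singletons [0, 1, 2, 3, 4]

theorem range_le : ψ.range ≤ G24.H := by
  rw [ψ, range_numHom, Subgroup.closure_le]
  intro x hx
  obtain ⟨w, hw, rfl⟩ := List.mem_map.mp hx
  rw [H_eq]
  exact ev_mem_genBy _ (imgs_low w hw)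

theorem ψ_injective : Function.Injective ψ := by
  haveI := J2.Perm.isSimple
  rcases (ψ.normal_ker).eq_bot_or_eq_top with h | h
  · exact (MonoidHom.ker_eq_bot_iff ψ).mp h
  · exfalso
    have h1 : ψ (fl J2.Perm.Lp 0) = 1 := MonoidHom.mem_ker.mp (h ▸ Subgroup.mem_top _)
    rw [ψ, numHom_fl] at h1
    have h2 : fl Li 0 = ev G24.Lp (imgs.getD 0 []) := by
      have := ev_Li [0]
      simpa [flat] using this
    rw [h2, ← ev_nil (L := G24.Lp)] at h1
    have hne : (List.range 416).any (fun b => !(Nat.beq (follow (tget G24.Top.Tb) b (imgs.getD 0 [])) b))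
        = true := by decide +kernel
    obtain ⟨b, hb, hb'⟩ := List.any_eq_true.mp hne
    have hb2 : b < 416 := List.mem_range.mp hb
    have hm : ev G24.Lp (imgs.getD 0 []) ∈ pstab G24.ρ ⟨b, hb2⟩ := by
      rw [h1, ev_nil]; exact Subgroup.one_mem _
    have hl : ∀ l ∈ imgs.getD 0 [], l < G24.Lp.length := by
      rw [G24.len_Lp]; decide +kernel
    have h3 : follow (tget G24.Top.Tb) b (imgs.getD 0 []) = b :=
      (G24.matches_ρ.mem_pstab_iff ⟨b, hb2⟩ hl).mp hm
    rw [h3] at hb'
    simp at hb'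

theorem card_H : Nat.card G24.H = 604800 := by
  have h := Subgroup.card_mul_index G24.H
  rw [G24.index_and_eq.1, G24.card_and_injective.1] at h
  omega

theorem nonempty_equiv : Nonempty (J2.Perm.P ≃* G24.H) := by
  haveI := G24.card_le.1
  let f : J2.Perm.P →* G24.H := ψ.codRestrict _ fun x => range_le ⟨x, rfl⟩
  have hf : Function.Injective f := fun a b hab => ψ_injective (congrArg Subtype.val hab)
  exact ⟨MulEquiv.ofBijective f (hf.bijective_of_nat_card_le (by rw [card_H, J2.Perm.card_P]))⟩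

section Orbit

variable {G : Type*} [Group G] [Finite G] {n : Nat} {ρ : G →* Equiv.Perm (Fin n)}

/-- In a subgroup, a point stabiliser is maximal when the sizes of its nontrivial orbits on the
subgroup's orbit rule out blocks. -/
theorem inf_pstab_isCoatom {S : Subgroup G} {z : Fin n} {r : Nat}
    (hne : 1 < (orb ρ S z).ncard) (A : Fin r → Set (Fin n))
    (hA : ∀ j, ∀ x ∈ A j, ∀ y ∈ A j, ∃ h ∈ S ⊓ pstab ρ z, ρ h x = y)
    (hcov : ∀ i ∈ orb ρ S z, i ≠ z → ∃ j, i ∈ A j)
    (hsum : 1 + ∑ j, (A j).ncard = (orb ρ S z).ncard)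
    (hblock : ∀ s : Finset (Fin r), (1 + ∑ j ∈ s, (A j).ncard) ∣ (orb ρ S z).ncard →
      s = ∅ ∨ s = Finset.univ) :
    IsCoatom ((S ⊓ pstab ρ z).subgroupOf S) := by
  classical
  set K := S ⊓ pstab ρ z with hK
  have hcS := card_orb_mul (ρ := ρ) S z
  have hKpos : 0 < Nat.card K := Nat.card_pos
  refine ⟨fun htop => ?_, fun M hM => ?_⟩
  · have hle : S ≤ K := Subgroup.subgroupOf_eq_top.mp htop
    have : Nat.card S = Nat.card K := by rw [le_antisymm hle inf_le_left]
    rw [this, ← hK] at hcS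
    have h2 : 2 * Nat.card K ≤ (orb ρ S z).ncard * Nat.card K := Nat.mul_le_mul_right _ hne
    omega
  set M' := M.map S.subtype with hM'
  have hM'S : M' ≤ S := by rintro _ ⟨x, -, rfl⟩; exact x.2
  have hKM : K ≤ M' := fun x hx =>
    ⟨⟨x, inf_le_left (b := pstab ρ z) hx⟩, hM.le (Subgroup.mem_subgroupOf.mpr hx), rfl⟩
  have hinf : M' ⊓ pstab ρ z = K :=
    le_antisymm (inf_le_inf_right _ hM'S) (le_inf hKM inf_le_right)
  have hcM := card_orb_mul (ρ := ρ) M' z
  rw [hinf] at hcM
  set T := orb ρ M' z with hT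
  set O := orb ρ S z with hO
  have hTO : T ⊆ O := by rintro i ⟨g, hg, rfl⟩; exact ⟨g, hM'S hg, rfl⟩
  have hdvd : T.ncard ∣ O.ncard := by
    have h := Subgroup.card_dvd_of_le hM'S
    rw [← hcM, ← hcS] at h
    exact Nat.dvd_of_mul_dvd_mul_right hKpos h
  let s : Finset (Fin r) := Finset.univ.filter fun j => (A j ∩ T).Nonempty
  have hs : ∀ j, j ∈ s → A j ⊆ T := by
    intro j hj y hy
    obtain ⟨x, hx, hxT⟩ := (Finset.mem_filter.mp hj).2
    obtain ⟨h, hh, rfl⟩ := hA j x hx y hy
    exact orb_mapsTo z (hKM hh) hxT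
  have hUT : ∀ t : Finset (Fin r), (⋃ j ∈ t, A j).ncard ≤ ∑ j ∈ t, (A j).ncard :=
    fun t => Finset.set_ncard_biUnion_le t A
  have h1 : T ⊆ {z} ∪ ⋃ j ∈ s, A j := by
    intro x hx
    rcases eq_or_ne x z with rfl | hxz
    · exact Or.inl rfl
    · obtain ⟨j, hj⟩ := hcov x (hTO hx) hxz
      exact Or.inr (Set.mem_biUnion (Finset.mem_filter.mpr ⟨Finset.mem_univ j, x, hj, hx⟩) hj)
  have h2 : O \ T ⊆ ⋃ j ∈ sᶜ, A j := by
    rintro x ⟨hxO, hxT⟩
    have hxz : x ≠ z := fun h => hxT (h ▸ self_mem_orb M' z)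
    obtain ⟨j, hj⟩ := hcov x hxO hxz
    exact Set.mem_biUnion (Finset.mem_compl.mpr fun hjs => hxT (hs j hjs hj)) hj
  have e1 : T.ncard ≤ 1 + ∑ j ∈ s, (A j).ncard :=
    ((Set.ncard_le_ncard h1 (Set.toFinite _)).trans (Set.ncard_union_le _ _)).trans
      (by rw [Set.ncard_singleton]; exact Nat.add_le_add_left (hUT s) 1)
  have e2 : (O \ T).ncard ≤ ∑ j ∈ sᶜ, (A j).ncard :=
    (Set.ncard_le_ncard h2 (Set.toFinite _)).trans (hUT _)
  have e3 : (O \ T).ncard + T.ncard = O.ncard :=
    Set.ncard_diff_add_ncard_of_subset hTO (Set.toFinite _)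
  have e4 : ∑ j ∈ s, (A j).ncard + ∑ j ∈ sᶜ, (A j).ncard = ∑ j, (A j).ncard :=
    Finset.sum_add_sum_compl s _
  have hTc : T.ncard = 1 + ∑ j ∈ s, (A j).ncard := by omega
  have hMmap : M'.subgroupOf S = M := by
    rw [hM', Subgroup.subgroupOf, Subgroup.comap_map_eq_self_of_injective S.subtype_injective]
  rcases hblock s (hTc ▸ hdvd) with h0 | h0
  · exfalso
    have hT1 : T.ncard = 1 := by rw [hTc, h0]; simp
    have hMK : M' ≤ K := by
      rw [← hinf]
      refine le_inf le_rfl fun g hg => ?_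
      rw [mem_pstab]
      obtain ⟨a, ha⟩ := Set.ncard_eq_one.mp hT1
      have h3 : ρ g z ∈ T := ⟨g, hg, rfl⟩
      have h4 : z ∈ T := self_mem_orb M' z
      rw [ha, Set.mem_singleton_iff] at h3 h4
      rw [h3, h4]
    refine hM.ne ?_
    rw [← le_antisymm hMK hKM, hMmap]
  · have hTO' : T.ncard = O.ncard := by rw [hTc, h0, ← hsum]
    have hMS : S ≤ M' := by
      refine (Subgroup.eq_of_le_of_card_ge hM'S ?_).ge
      rw [← hcM, ← hcS, hTO']
    rw [← hMmap]
    exact Subgroup.subgroupOf_eq_top.mpr hMS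

end Orbit

/-- The listed points of an orbit, other than the base point, are covered by the certificates. -/
noncomputable def checkCoverIn (P : Nat → Nat) (m dm z : Nat) (cs : List OrbitCert) : Bool :=
  allBelow dm m fun j => cond (Nat.beq (opt P j) z) true
    (List.rec false (fun c _ ih =>
      cond (cond (Nat.ble (Nat.add (field (c.Inv (opt P j)) 0) 1) c.size)
        (Nat.beq (opt c.P (field (c.Inv (opt P j)) 0)) (opt P j)) false) true ih) cs)

theorem coverIn_mem {G : Type*} [Group G] {L : List G} {n : Nat} {Tb : Nat → Nat}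
    {ρ : G →* Equiv.Perm (Fin n)} (hm : Matches L ρ Tb) {dn : Nat} {ws : List (List Nat)}
    {cs : List OrbitCert} (hc : checkOrbits Tb dn ws cs = true)
    (hl : checkLetters L.length ws = true) {P : Nat → Nat} {m dm : Nat} {z i : Fin n}
    (hcov : checkCoverIn P m dm z cs = true) (hi : ∃ j < m, opt P j = i) (hiz : i ≠ z) :
    ∃ c ∈ cs, ∀ β : Fin n, (β : Nat) = c.pt → i ∈ orb ρ (genW L ws) β := by
  obtain ⟨j, hj, hji⟩ := hi
  have h := of_allBelow hcov j hj
  rw [hji] at h
  have hb : Nat.beq (i : Nat) z = false := by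
    cases hh : Nat.beq (i : Nat) z
    · rfl
    · exact absurd (Fin.ext (Nat.eq_of_beq_eq_true hh)) hiz
  rw [hb, cond_false] at h
  have key : ∀ (cs' : List OrbitCert),
      List.rec (motive := fun _ => Bool) false (fun c _ ih =>
        cond (cond (Nat.ble (Nat.add (field (c.Inv i) 0) 1) c.size)
          (Nat.beq (opt c.P (field (c.Inv i) 0)) i) false) true ih) cs' = true →
      ∃ c ∈ cs', field (c.Inv i) 0 < c.size ∧ opt c.P (field (c.Inv i) 0) = i := by
    intro cs'
    induction cs' with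
    | nil => intro h; simp at h
    | cons c t ih =>
      intro h
      cases hb : (cond (Nat.ble (Nat.add (field (c.Inv i) 0) 1) c.size)
          (Nat.beq (opt c.P (field (c.Inv i) 0)) i) false)
      · simp only [hb, cond_false] at h
        obtain ⟨c', hc', h'⟩ := ih h
        exact ⟨c', by simp [hc'], h'⟩
      · rw [cond_false_eq_true] at hb
        exact ⟨c, by simp, Nat.ble_eq.mp hb.1, Nat.eq_of_beq_eq_true hb.2⟩
  obtain ⟨c, hmem, hlt, he⟩ := key cs h
  refine ⟨c, hmem, fun β hβ => ?_⟩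
  have hh := allList_iff.mp hc c hmem
  simp only [cond_false_eq_true] at hh
  rw [← hβ] at hh
  obtain ⟨x, hx, hxe⟩ := (hm.orbit_le hh.2.1 hl (S := genW L ws)
    fun w hw => ev_mem_genW hw).2 _ hlt
  rwa [show i = x from Fin.ext (by omega)]

theorem letters_H : checkLetters (G24.Lp).length G24.Top.subs = true := by
  rw [G24.len_Lp]; decide +kernel

/-- One suborbit. -/
theorem suborbit_coatom {z : Fin 416} {m dm : Nat} {P Inv : Nat → Nat}
    {ws : List (List Nat)} {cs : List OrbitCert}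
    (hP : checkOrbit G24.Top.Tb z m dm G24.Top.subs P Inv = true)
    (hcl : checkClosed G24.Top.Tb m dm G24.Top.subs P Inv = true) (hm1 : 1 < m)
    (hl : checkLetters 6 ws = true) (hlow : checkLetters 5 ws = true)
    (hfix : checkFix G24.Top.Tb [(z : Nat)] ws = true)
    (hc : checkOrbits G24.Top.Tb 9 ws cs = true)
    (hcov : checkCoverIn P m dm z cs = true) (hpt : ∀ c ∈ cs, c.pt < 416)
    (hsum : 1 + ∑ j : Fin cs.length, (cs[j.val]).size = m)
    (hblock : ∀ s : Finset (Fin cs.length), (1 + ∑ j ∈ s, (cs[j.val]).size) ∣ m →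
      s = ∅ ∨ s = Finset.univ) :
    IsCoatom ((G24.H ⊓ pstab G24.ρ z).subgroupOf G24.H) := by
  haveI := G24.card_le.1
  have hl' : checkLetters (G24.Lp).length ws = true := by rwa [G24.len_Lp]
  have hO : (orb G24.ρ G24.H z).ncard = m :=
    G24.matches_ρ.orbit_eq hP hcl letters_H (by omega)
  have hle : genW G24.Lp ws ≤ G24.H ⊓ pstab G24.ρ z := by
    refine le_inf ?_ (genW_le_pstab G24.matches_ρ z hl' hfix)
    refine (Subgroup.closure_le _).mpr ?_
    rintro _ ⟨w, hw, rfl⟩
    rw [H_eq]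
    refine ev_mem_genBy _ fun l hlw => ?_
    have := letters_lt hlow w hw l hlw
    simp only [List.mem_cons, List.mem_nil_iff, or_false]
    omega
  let A : Fin cs.length → Set (Fin 416) := fun j =>
    orb G24.ρ (genW G24.Lp ws) ⟨_, hpt _ (List.getElem_mem j.2)⟩
  have hAc : ∀ j, (A j).ncard = (cs[j.val]).size := fun j =>
    orbits_ncard G24.matches_ρ hc hl' (List.getElem_mem j.2) _ rfl
  refine inf_pstab_isCoatom (by omega) A ?_ ?_ (by simp only [hAc]; omega) ?_
  · rintro j x ⟨g, hg, rfl⟩ y ⟨h, hh, rfl⟩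
    exact ⟨h * g⁻¹, hle (mul_mem hh (inv_mem hg)), by simp⟩
  · intro i hi hiz
    have hsub := G24.matches_ρ.orbit_subset hP hcl letters_H (by omega)
    obtain ⟨c, hmem, hc'⟩ := coverIn_mem G24.matches_ρ hc hl' hcov (hsub hi) hiz
    obtain ⟨j, hj, rfl⟩ := List.getElem_of_mem hmem
    exact ⟨⟨j, hj⟩, hc' _ rfl⟩
  · intro s hs
    simp only [hAc, hO] at hs
    exact hblock s hs

theorem coatomA : IsCoatom ((G24.H ⊓ pstab G24.ρ ⟨38, by decide⟩).subgroupOf G24.H) :=
  suborbit_coatom (m := 100) (dm := 9) (P := G24.Orb.H1P) (Inv := G24.Orb.H1Inv) (ws := wsA)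
    (cs := certsA) (by decide +kernel) (by decide +kernel) (by norm_num) (by decide +kernel)
    (by decide +kernel) (by decide +kernel) (by decide +kernel) (by decide +kernel)
    (by decide +kernel) (by decide +kernel) (by decide +kernel)

theorem coatomB : IsCoatom ((G24.H ⊓ pstab G24.ρ ⟨1, by decide⟩).subgroupOf G24.H) :=
  suborbit_coatom (m := 315) (dm := 9) (P := G24.Orb.H0P) (Inv := G24.Orb.H0Inv) (ws := wsB)
    (cs := certsB) (by decide +kernel) (by decide +kernel) (by norm_num) (by decide +kernel)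
    (by decide +kernel) (by decide +kernel) (by decide +kernel) (by decide +kernel)
    (by decide +kernel) (by decide +kernel) (by decide +kernel)

theorem pstab_conj {h : G24.P} (x : Fin 416) :
    (pstab G24.ρ x).map (MulAut.conj h).toMonoidHom = pstab G24.ρ (G24.ρ h x) := by
  ext g
  constructor
  · rintro ⟨k, hk, rfl⟩
    have hk' : G24.ρ k x = x := mem_pstab.mp hk
    simp [mem_pstab, MulAut.conj_apply, hk']
  · intro hg
    refine ⟨h⁻¹ * g * h, ?_, by simp [MulAut.conj_apply, mul_assoc]⟩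
    have hg' : G24.ρ g (G24.ρ h x) = G24.ρ h x := mem_pstab.mp hg
    simp [mem_pstab, hg']

theorem coatom_move {h : G24.P} (hh : h ∈ G24.H) {z : Fin 416}
    (hz : IsCoatom ((G24.H ⊓ pstab G24.ρ z).subgroupOf G24.H)) :
    IsCoatom ((G24.H ⊓ pstab G24.ρ (G24.ρ h z)).subgroupOf G24.H) := by
  have e : ((G24.H ⊓ pstab G24.ρ z).subgroupOf G24.H).map
      (MulAut.conj (⟨h, hh⟩ : G24.H)).toMonoidHom =
      (G24.H ⊓ pstab G24.ρ (G24.ρ h z)).subgroupOf G24.H := by
    rw [← pstab_conj]
    ext g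
    constructor
    · rintro ⟨k, hk, rfl⟩
      exact ⟨(MulAut.conj (⟨h, hh⟩ : G24.H) k).2, k, hk.2, rfl⟩
    · rintro ⟨hg, k, hk, hkg⟩
      have hkH : k ∈ G24.H := by
        have : k = h⁻¹ * (g : G24.P) * h := by
          have hkg' : h * k * h⁻¹ = (g : G24.P) := hkg
          rw [← hkg']; group
        rw [this]; exact mul_mem (mul_mem (inv_mem hh) hg) hh
      exact ⟨⟨k, hkH⟩, ⟨hkH, hk⟩, Subtype.ext hkg⟩
  rw [← e]
  exact (OrderIso.isCoatom_iff (MulAut.conj (⟨h, hh⟩ : G24.H)).mapSubgroup _).mpr hz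

theorem point_coatom (i : Fin 416) (hi : (i : Nat) ≠ 0) :
    IsCoatom ((G24.H ⊓ pstab G24.ρ i).subgroupOf G24.H) := by
  obtain ⟨c, hc, hc'⟩ := orbits_cover G24.matches_ρ G24.orbits_ok letters_H G24.cover_ok i hi
  simp only [G24.Orb.certs, List.mem_cons, List.mem_nil_iff, or_false] at hc
  rcases hc with rfl | rfl
  · obtain ⟨h, hh, rfl⟩ := hc' ⟨1, by decide⟩ rfl
    exact coatom_move hh coatomB
  · obtain ⟨h, hh, rfl⟩ := hc' ⟨38, by decide⟩ rfl
    exact coatom_move hh coatomA

theorem H_isCoatom : IsCoatom G24.H := by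
  have := pstab_isCoatom_of_orbits G24.matches_ρ (by decide) G24.orbits_ok
    (by rw [G24.len_Lp]; decide +kernel) G24.cover_ok
    G24.transitive (by decide +kernel) G24.index_and_eq.2.le (by decide +kernel) (by decide +kernel)
  rwa [← G24.index_and_eq.2] at this

theorem inter_coatom (x : G24.P) (hx : x ∉ G24.H) :
    IsCoatom ((G24.H ⊓ G24.H.map (MulAut.conj x).toMonoidHom).subgroupOf G24.H) := by
  have e : G24.H.map (MulAut.conj x).toMonoidHom = pstab G24.ρ (G24.ρ x ⟨0, by decide⟩) := by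
    rw [← pstab_conj, ← G24.index_and_eq.2]
  rw [e]
  refine point_coatom _ fun h => hx ?_
  rw [G24.index_and_eq.2, mem_pstab]
  exact Fin.ext h

end CfsgLib.G24J2
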